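import Groth.Agent.MatlisLib.Core
import Groth.Agent.S0543
import Mathlib.RingTheory.HopkinsLevitzki
import Mathlib.RingTheory.AdicCompletion.Algebra

/-!
# Endomorphisms of the hull are the completion; the hull is Artinian
-/

set_option autoImplicit false

universe u

namespace Groth.Agent.MatlisLib

open InjHull

variable {R : Type u} [CommRing R] [IsNoetherianRing R] {m : Ideal R} [m.IsMaximal] {E : Type u}
  [AddCommGroup E] [Module R E] {f : (R ⧸ m) →ₗ[R] E}

variable (m) in
theorem isFiniteLength_quotient_pow (n : ℕ) : IsFiniteLength R (R ⧸ m ^ n) := by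
  haveI : Ring.KrullDimLE 0 (R ⧸ m ^ n) := Ring.krullDimLE_zero_iff.2 fun P hP => by
    have hle : m ≤ P.comap (Ideal.Quotient.mk (m ^ n)) := fun a ha =>
      hP.mem_of_pow_mem n (by
        rw [← map_pow, Ideal.Quotient.eq_zero_iff_mem.2 (Ideal.pow_mem_pow ha n)]
        exact P.zero_mem)
    have hne : P.comap (Ideal.Quotient.mk (m ^ n)) ≠ ⊤ := (Ideal.IsPrime.comap _).ne_top
    have := Ideal.IsMaximal.eq_of_le ‹m.IsMaximal› hne hle
    rw [← Ideal.map_comap_of_surjective _ Ideal.Quotient.mk_surjective P, ← this]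
    refine Ideal.IsMaximal.map_of_surjective_of_ker_le Ideal.Quotient.mk_surjective ?_
    rw [Ideal.mk_ker]
    exact le_trans (fun a ha => by
      rw [Ideal.mem_comap, Ideal.Quotient.eq_zero_iff_mem.2 ha]; exact P.zero_mem :
        m ^ n ≤ P.comap (Ideal.Quotient.mk (m ^ n))) this.ge
  haveI : IsArtinianRing (R ⧸ m ^ n) := isArtinianRing_iff_krullDimLE_zero.2 inferInstance
  haveI : IsArtinian R (R ⧸ m ^ n) :=
    isArtinian_of_surjective_algebraMap (R := R ⧸ m ^ n) Ideal.Quotient.mk_surjective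
  exact isFiniteLength_iff_isNoetherian_isArtinian.2 ⟨inferInstance, inferInstance⟩

omit [IsNoetherianRing R] [m.IsMaximal] in
theorem isPowerTorsion_quotient_pow (n : ℕ) : LocCoh.IsPowerTorsion m (R ⧸ m ^ n) := fun x => by
  obtain ⟨x, rfl⟩ := Ideal.Quotient.mk_surjective x
  exact ⟨n, fun a ha => Ideal.Quotient.eq_zero_iff_mem.2 ((m ^ n).mul_mem_right x ha)⟩

/-- An element killing all of `E[mⁿ]` lies in `mⁿ`. -/
theorem mem_pow_of_killed (hf : IsInjectiveHull f) {n : ℕ} {r : R}
    (h : ∀ e : E, (∀ a ∈ m ^ n, a • e = 0) → r • e = 0) : r ∈ m ^ n := by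
  rw [← Ideal.Quotient.eq_zero_iff_mem]
  refine applyₗ_injective_of_isPowerTorsion hf (isPowerTorsion_quotient_pow n)
    (LinearMap.ext fun φ => ?_)
  rw [map_zero, LinearMap.zero_apply]
  show φ (Ideal.Quotient.mk (m ^ n) r) = 0
  rw [show Ideal.Quotient.mk (m ^ n) r = r • (1 : R ⧸ m ^ n) from
    show _ = Ideal.Quotient.mk (m ^ n) (r * 1) by rw [mul_one], map_smul]
  refine h _ fun a ha => ?_
  rw [← map_smul, show a • (1 : R ⧸ m ^ n) = 0 from
    (Ideal.Quotient.eq_zero_iff_mem.2 ((m ^ n).mul_mem_right 1 ha) :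
      Ideal.Quotient.mk (m ^ n) (a * 1) = 0), map_zero]

/-- A map `E[mⁿ] → E` is multiplication by an element of `R`. -/
theorem exists_smul_eq (hf : IsInjectiveHull f) (n : ℕ)
    (φ : (LocCoh.torsionBy (m ^ n) E) →ₗ[R] E) :
    ∃ r : R, ∀ e, φ e = r • (e : E) := by
  have h1 : ∀ ψ : (R ⧸ m ^ n) →ₗ[R] E, ψ 1 ∈ LocCoh.torsionBy (m ^ n) E := fun ψ =>
    (Submodule.mem_torsionBySet_iff _ _).2 fun a => by
      show (a : R) • ψ 1 = 0
      rw [← map_smul, show (a : R) • (1 : R ⧸ m ^ n) = 0 from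
        (Ideal.Quotient.eq_zero_iff_mem.2 ((m ^ n).mul_mem_right 1 a.2) :
          Ideal.Quotient.mk (m ^ n) (a * 1) = 0), map_zero]
  obtain ⟨c, hc⟩ := (applyₗ_bijective hf (isFiniteLength_quotient_pow m n)
    (isPowerTorsion_quotient_pow n)).2
    { toFun := fun ψ => φ ⟨ψ 1, h1 ψ⟩
      map_add' := fun a b => (congrArg φ (Subtype.ext rfl)).trans (map_add φ ⟨a 1, h1 a⟩ ⟨b 1, h1 b⟩)
      map_smul' := fun s a => (congrArg φ (Subtype.ext rfl)).trans (map_smul φ s ⟨a 1, h1 a⟩) }
  obtain ⟨r, rfl⟩ := Ideal.Quotient.mk_surjective c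
  refine ⟨r, fun e => ?_⟩
  have hker : m ^ n ≤ LinearMap.ker (LinearMap.toSpanSingleton R E (e : E)) := fun a ha =>
    (Submodule.mem_torsionBySet_iff _ _).1 e.2 ⟨a, ha⟩
  let ψ : (R ⧸ m ^ n) →ₗ[R] E := Submodule.liftQ (m ^ n) (LinearMap.toSpanSingleton R E (e : E)) hker
  have hψ : ∀ s : R, ψ (Ideal.Quotient.mk (m ^ n) s) = s • (e : E) := fun s => rfl
  have he : (⟨ψ 1, h1 ψ⟩ : LocCoh.torsionBy (m ^ n) E) = e :=
    Subtype.ext (show ψ 1 = (e : E) by rw [← map_one (Ideal.Quotient.mk (m ^ n)), hψ, one_smul])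
  have := LinearMap.congr_fun hc ψ
  rw [show LinearMap.applyₗ (Ideal.Quotient.mk (m ^ n) r) ψ = r • (e : E) from hψ r] at this
  rw [this]
  exact congrArg φ he.symm

theorem exists_rep (hT : LocCoh.IsPowerTorsion m E) (x : AdicCompletion m R) (e : E) :
    ∃ y : E, ∀ (n : ℕ) (r : R), Ideal.Quotient.mk (m ^ n) r = AdicCompletion.evalₐ m n x →
      (∀ a ∈ m ^ n, a • e = 0) → r • e = y := by
  obtain ⟨c, rfl⟩ := AdicCompletion.mk_surjective m R x
  obtain ⟨N, hN⟩ := hT e
  refine ⟨c.1 N • e, fun n r hr he => ?_⟩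
  rw [AdicCompletion.evalₐ_mk, Ideal.Quotient.eq] at hr
  have hcc : ∀ {k l : ℕ}, k ≤ l → c.1 k - c.1 l ∈ m ^ k := fun {k l} hkl => by
    have := c.2 hkl
    rwa [SModEq.sub_mem, smul_eq_mul, Ideal.mul_top] at this
  rw [← sub_eq_zero, ← sub_smul]
  rcases le_total n N with h | h
  · refine he _ ?_
    have := (m ^ n).add_mem hr (hcc h)
    simpa using this
  · refine hN _ ?_
    have := (m ^ N).sub_mem (Ideal.pow_le_pow_right h hr) (hcc h)
    simpa using this

/-- The action of the completion on the hull. -/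
noncomputable def act (hT : LocCoh.IsPowerTorsion m E) (x : AdicCompletion m R) (e : E) : E :=
  (exists_rep hT x e).choose

theorem act_eq (hT : LocCoh.IsPowerTorsion m E) {x : AdicCompletion m R} {e : E} {n : ℕ} {r : R}
    (hr : Ideal.Quotient.mk (m ^ n) r = AdicCompletion.evalₐ m n x)
    (he : ∀ a ∈ m ^ n, a • e = 0) : act hT x e = r • e :=
  ((exists_rep hT x e).choose_spec n r hr he).symm

theorem exists_level (hT : LocCoh.IsPowerTorsion m E) (x : AdicCompletion m R) (e e' : E) :
    ∃ (n : ℕ) (r : R), Ideal.Quotient.mk (m ^ n) r = AdicCompletion.evalₐ m n x ∧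
      (∀ a ∈ m ^ n, a • e = 0) ∧ ∀ a ∈ m ^ n, a • e' = 0 := by
  obtain ⟨k, hk⟩ := hT e
  obtain ⟨l, hl⟩ := hT e'
  obtain ⟨r, hr⟩ := Ideal.Quotient.mk_surjective (AdicCompletion.evalₐ m (max k l) x)
  exact ⟨max k l, r, hr, fun a ha => hk a (Ideal.pow_le_pow_right (le_max_left _ _) ha),
    fun a ha => hl a (Ideal.pow_le_pow_right (le_max_right _ _) ha)⟩

/-- The completion maps to the endomorphisms of the hull. -/
noncomputable def actHom (hT : LocCoh.IsPowerTorsion m E) :
    AdicCompletion m R →ₐ[R] Module.End R E where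
  toFun x :=
    { toFun := act hT x
      map_add' := fun e e' => by
        obtain ⟨n, r, hr, he, he'⟩ := exists_level hT x e e'
        rw [act_eq hT hr he, act_eq hT hr he', act_eq hT hr fun a ha => by
          rw [smul_add, he a ha, he' a ha, add_zero], smul_add]
      map_smul' := fun s e => by
        obtain ⟨n, r, hr, he, -⟩ := exists_level hT x e e
        rw [RingHom.id_apply, act_eq hT hr he, act_eq hT hr fun a ha => by
          rw [smul_comm, he a ha, smul_zero], smul_comm] }
  map_one' := LinearMap.ext fun e => by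
    obtain ⟨n, r, -, he, -⟩ := exists_level hT 1 e e
    show act hT 1 e = e
    rw [act_eq hT (r := 1) (by rw [map_one, map_one]) he, one_smul]
  map_mul' x y := LinearMap.ext fun e => by
    obtain ⟨n, r, hr, he, -⟩ := exists_level hT x e e
    obtain ⟨s, hs⟩ := Ideal.Quotient.mk_surjective (AdicCompletion.evalₐ m n y)
    show act hT (x * y) e = act hT x (act hT y e)
    rw [act_eq hT hs he, act_eq hT hr (fun a ha => by rw [smul_comm, he a ha, smul_zero]),
      act_eq hT (r := r * s) (by rw [map_mul, map_mul, hr, hs]) he, mul_smul]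
  map_zero' := LinearMap.ext fun e => by
    obtain ⟨n, r, -, he, -⟩ := exists_level hT 0 e e
    show act hT 0 e = 0
    rw [act_eq hT (r := 0) (by rw [map_zero, map_zero]) he, zero_smul]
  map_add' x y := LinearMap.ext fun e => by
    obtain ⟨n, r, hr, he, -⟩ := exists_level hT x e e
    obtain ⟨s, hs⟩ := Ideal.Quotient.mk_surjective (AdicCompletion.evalₐ m n y)
    show act hT (x + y) e = act hT x e + act hT y e
    rw [act_eq hT hr he, act_eq hT hs he,
      act_eq hT (r := r + s) (by rw [map_add, map_add, hr, hs]) he, add_smul]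
  commutes' s := LinearMap.ext fun e => by
    obtain ⟨n, r, -, he, -⟩ := exists_level hT 0 e e
    show act hT (algebraMap R (AdicCompletion m R) s) e = algebraMap R (Module.End R E) s e
    rw [act_eq hT (r := s) (n := n) (AlgHom.commutes (AdicCompletion.evalₐ m n) s).symm he,
      Module.algebraMap_end_apply]

theorem actHom_apply (hT : LocCoh.IsPowerTorsion m E) (x : AdicCompletion m R) (e : E) :
    actHom hT x e = act hT x e := rfl

theorem actHom_bijective (hf : IsInjectiveHull f) : Function.Bijective (actHom (isPowerTorsion hf)) := by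
  constructor
  · refine (injective_iff_map_eq_zero _).2 fun x hx => AdicCompletion.ext_evalₐ fun n => ?_
    obtain ⟨r, hr⟩ := Ideal.Quotient.mk_surjective (AdicCompletion.evalₐ m n x)
    rw [map_zero, ← hr, Ideal.Quotient.eq_zero_iff_mem]
    refine mem_pow_of_killed hf fun e he => ?_
    exact (act_eq (isPowerTorsion hf) hr he).symm.trans (LinearMap.congr_fun hx e)
  · intro φ
    choose r hr using fun n => exists_smul_eq hf n (φ.comp (LocCoh.torsionBy (m ^ n) E).subtype)
    have hr' : ∀ (n : ℕ) (e : E), (∀ a ∈ m ^ n, a • e = 0) → φ e = r n • e := fun n e he =>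
      hr n ⟨e, (Submodule.mem_torsionBySet_iff _ _).2 fun a => he a a.2⟩
    have hc : AdicCompletion.IsAdicCauchy m R r := fun {k l} hkl => by
      rw [SModEq.sub_mem, smul_eq_mul, Ideal.mul_top]
      refine mem_pow_of_killed hf fun e he => ?_
      rw [sub_smul, ← hr' k e he, ← hr' l e fun a ha => he a (Ideal.pow_le_pow_right hkl ha), sub_self]
    refine ⟨AdicCompletion.mk m R ⟨r, hc⟩, LinearMap.ext fun e => ?_⟩
    obtain ⟨n, hn⟩ := isPowerTorsion hf e
    rw [actHom_apply, act_eq (isPowerTorsion hf) (r := r n) (n := n)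
      (AdicCompletion.evalₐ_mk m n ⟨r, hc⟩).symm hn, hr' n e hn]

/-- `End(E) ≅ R̂`. -/
noncomputable def endEquiv (hf : IsInjectiveHull f) :
    AdicCompletion m R ≃ₐ[R] Module.End R E :=
  AlgEquiv.ofBijective (actHom (isPowerTorsion hf)) (actHom_bijective hf)

/-- The hull is Artinian. -/
theorem isArtinian (hf : IsInjectiveHull f) : IsArtinian R E := by
  haveI : IsNoetherianRing (AdicCompletion m R) := S0543.result R m
  let a : Submodule R E → Ideal (AdicCompletion m R) := fun N =>
    { carrier := {x | ∀ e ∈ N, actHom (isPowerTorsion hf) x e = 0}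
      add_mem' := fun {x y} hx hy e he => by
        rw [map_add, LinearMap.add_apply, hx e he, hy e he, add_zero]
      zero_mem' := fun e _ => by rw [map_zero, LinearMap.zero_apply]
      smul_mem' := fun c x hx e he => by
        rw [smul_eq_mul, map_mul, Module.End.mul_apply, hx e he, map_zero] }
  refine ⟨RelHomClass.wellFounded (F := RelHom (· < ·) (· > ·)) ⟨a, fun {N N'} h => ?_⟩
    (wellFounded_gt)⟩
  refine lt_of_le_of_ne (fun x hx e he => hx e (h.le he)) fun heq => ?_
  obtain ⟨e, heN', heN⟩ := SetLike.exists_of_lt h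
  have hne : (Submodule.Quotient.mk e : E ⧸ N) ≠ 0 := fun h0 =>
    heN ((Submodule.Quotient.mk_eq_zero N).1 h0)
  obtain ⟨ψ, hψ⟩ := exists_dual_ne_zero hf (annihilator_le_of_isPowerTorsion
    (isPowerTorsion_of_surjective N.mkQ N.mkQ_surjective (isPowerTorsion hf)) hne)
  obtain ⟨x, hx⟩ := (actHom_bijective hf).2 (ψ.comp N.mkQ)
  have hxN : x ∈ a N := fun e' he' => by
    rw [hx, LinearMap.comp_apply, Submodule.mkQ_apply, (Submodule.Quotient.mk_eq_zero N).2 he',
      map_zero]
  rw [← heq] at hxN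
  exact hψ (((LinearMap.congr_fun hx e).symm).trans (hxN e heN'))

end Groth.Agent.MatlisLib
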