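import Groth.Agent.MatlisLib.Completion
import Mathlib.RingTheory.LocalRing.ResidueField.Basic
import Mathlib.Algebra.Module.Submodule.Map

/-!
# Matlis duality over a local ring
-/

set_option autoImplicit false

universe u

namespace Groth.Agent.MatlisLib

open InjHull IsLocalRing

variable {R : Type u} [CommRing R] [IsLocalRing R] {E : Type u} [AddCommGroup E] [Module R E]
  {f : (R ⧸ maximalIdeal R) →ₗ[R] E}

omit [IsLocalRing R] in
theorem exists_pow_smul_eq_zero_of_isArtinian {M : Type u} [AddCommGroup M] [Module R M]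
    [IsArtinian R M] (a : R) (hu : ∀ r : R, IsUnit (1 - r * a)) (x : M) :
    ∃ k : ℕ, a ^ k • x = 0 := by
  obtain ⟨k, hk⟩ := IsArtinian.monotone_stabilizes
    (⟨fun k => OrderDual.toDual (R ∙ a ^ k • x), fun k l hkl => by
      show (R ∙ a ^ l • x) ≤ R ∙ a ^ k • x
      rw [Submodule.span_singleton_le_iff_mem, Submodule.mem_span_singleton]
      obtain ⟨d, rfl⟩ := Nat.exists_eq_add_of_le hkl
      exact ⟨a ^ d, by rw [← mul_smul, ← pow_add, add_comm]⟩⟩ : ℕ →o (Submodule R M)ᵒᵈ)
  refine ⟨k, ?_⟩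
  have hmem : a ^ k • x ∈ R ∙ a ^ (k + 1) • x := by
    have := congrArg OrderDual.ofDual (hk (k + 1) (Nat.le_succ k))
    rw [show (R ∙ a ^ (k + 1) • x) = R ∙ a ^ k • x from this.symm]
    exact Submodule.mem_span_singleton_self _
  obtain ⟨r, hr⟩ := Submodule.mem_span_singleton.1 hmem
  refine (hu r).smul_eq_zero.1 ?_
  rw [sub_smul, one_smul, mul_smul, ← mul_smul a, ← pow_succ', hr, sub_self]

theorem isPowerTorsion_of_isArtinian [IsNoetherianRing R] {M : Type u} [AddCommGroup M]
    [Module R M] [IsArtinian R M] : LocCoh.IsPowerTorsion (maximalIdeal R) M := fun x =>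
  Torsion.exists_pow_smul_eq_zero_of_le_radical _ (IsNoetherian.noetherian _) x fun a ha => by
    obtain ⟨k, hk⟩ := exists_pow_smul_eq_zero_of_isArtinian (M := M) a (fun r =>
      (isUnit_or_isUnit_one_sub_self (r * a)).resolve_left fun h =>
        (mem_maximalIdeal a).1 ha (isUnit_of_mul_isUnit_right h)) x
    exact ⟨k, (Submodule.mem_annihilator_span_singleton _ _).2 hk⟩

theorem isPowerTorsion_of_isFiniteLength [IsNoetherianRing R] {M : Type u} [AddCommGroup M]
    [Module R M] (hM : IsFiniteLength R M) : LocCoh.IsPowerTorsion (maximalIdeal R) M :=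
  haveI := (isFiniteLength_iff_isNoetherian_isArtinian.1 hM).2
  isPowerTorsion_of_isArtinian

/-- The hull is a cogenerator. -/
theorem exists_dual_ne_zero_of_ne (hf : IsInjectiveHull f) {M : Type u} [AddCommGroup M]
    [Module R M] {x : M} (hx : x ≠ 0) : ∃ φ : M →ₗ[R] E, φ x ≠ 0 :=
  exists_dual_ne_zero hf (le_maximalIdeal fun h => hx (by
    have : (1 : R) ∈ (R ∙ x).annihilator := h ▸ Submodule.mem_top
    rwa [Submodule.mem_annihilator_span_singleton, one_smul] at this))

theorem applyₗ_injective (hf : IsInjectiveHull f) {M : Type u} [AddCommGroup M] [Module R M] :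
    Function.Injective (LinearMap.applyₗ : M →ₗ[R] (M →ₗ[R] E) →ₗ[R] E) := by
  rw [injective_iff_map_eq_zero]
  intro x hx
  by_contra h0
  obtain ⟨φ, hφ⟩ := exists_dual_ne_zero_of_ne hf h0
  exact hφ (LinearMap.congr_fun hx φ)

theorem isArtinian_dual [IsNoetherianRing R] (hf : IsInjectiveHull f) (M : Type u)
    [AddCommGroup M] [Module R M] [Module.Finite R M] : IsArtinian R (M →ₗ[R] E) := by
  obtain ⟨n, π, hπ⟩ := Module.Finite.exists_fin' R M
  haveI := isArtinian hf
  let e : (M →ₗ[R] E) →ₗ[R] (Fin n → E) :=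
    LinearMap.pi fun i => LinearMap.applyₗ (π (Pi.basisFun R (Fin n) i))
  refine isArtinian_of_injective e ((injective_iff_map_eq_zero e).2 fun φ hφ => ?_)
  have h : φ ∘ₗ π = 0 := (Pi.basisFun R (Fin n)).ext fun i => congrFun hφ i
  exact LinearMap.ext fun x => by
    obtain ⟨y, rfl⟩ := hπ x
    exact LinearMap.congr_fun h y

theorem exists_end_eq_smul [IsNoetherianRing R] [IsAdicComplete (maximalIdeal R) R]
    (hf : IsInjectiveHull f) (φ : E →ₗ[R] E) : ∃ r : R, ∀ e, φ e = r • e := by
  obtain ⟨x, rfl⟩ := (actHom_bijective hf).2 φ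
  obtain ⟨r, rfl⟩ := (AdicCompletion.of_bijective (maximalIdeal R) R).2 x
  refine ⟨r, fun e => ?_⟩
  obtain ⟨n, hn⟩ := isPowerTorsion hf e
  exact act_eq (isPowerTorsion hf)
    (AlgHom.commutes (AdicCompletion.evalₐ (maximalIdeal R) n) r).symm hn

theorem applyₗ_bijective_of_finite [IsNoetherianRing R] [IsAdicComplete (maximalIdeal R) R]
    (hf : IsInjectiveHull f) (M : Type u) [AddCommGroup M] [Module R M] [Module.Finite R M] :
    Function.Bijective (LinearMap.applyₗ : M →ₗ[R] (M →ₗ[R] E) →ₗ[R] E) := by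
  refine ⟨applyₗ_injective hf, fun Φ => ?_⟩
  obtain ⟨n, π, hπ⟩ := Module.Finite.exists_fin' R M
  let b := Pi.basisFun R (Fin n)
  let e : (M →ₗ[R] E) →ₗ[R] (Fin n → E) := LinearMap.pi fun i => LinearMap.applyₗ (π (b i))
  have he : Function.Injective e := (injective_iff_map_eq_zero e).2 fun φ hφ => by
    have h : φ ∘ₗ π = 0 := b.ext fun i => congrFun hφ i
    exact LinearMap.ext fun x => by
      obtain ⟨y, rfl⟩ := hπ x
      exact LinearMap.congr_fun h y
  obtain ⟨Ψ, hΨ⟩ := InjHullBasic.exists_extend hf.isInjective he Φ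
  choose r hr using fun i => exists_end_eq_smul hf (Ψ.comp (LinearMap.single R (fun _ => E) i))
  refine ⟨π (∑ i, r i • b i), LinearMap.ext fun φ => ?_⟩
  have h := LinearMap.congr_fun hΨ φ
  rw [LinearMap.comp_apply] at h
  rw [← h, LinearMap.applyₗ_apply_apply, map_sum, map_sum,
    ← Finset.univ_sum_single (e φ), map_sum]
  refine Finset.sum_congr rfl fun i _ => ?_
  rw [map_smul, map_smul]
  exact (hr i (e φ i)).symm

theorem finite_dual_and_applyₗ_bijective [IsNoetherianRing R]
    [IsAdicComplete (maximalIdeal R) R] (hf : IsInjectiveHull f) (M : Type u) [AddCommGroup M]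
    [Module R M] {n : ℕ} (g : M →ₗ[R] (Fin n → E)) (hg : Function.Injective g) :
    Module.Finite R (M →ₗ[R] E) ∧
      Function.Bijective (LinearMap.applyₗ : M →ₗ[R] (M →ₗ[R] E) →ₗ[R] E) := by
  let T : (Fin n → R) →ₗ[R] (M →ₗ[R] E) :=
    Fintype.linearCombination R fun i => (LinearMap.proj i).comp g
  have hT : ∀ c x, T c x = ∑ i, c i • g x i := fun c x => by
    rw [Fintype.linearCombination_apply, LinearMap.sum_apply]
    exact Finset.sum_congr rfl fun i _ => rfl
  have hsurj : Function.Surjective T := fun φ => by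
    obtain ⟨ψ, hψ⟩ := InjHullBasic.exists_extend hf.isInjective hg φ
    choose r hr using fun i => exists_end_eq_smul hf (ψ.comp (LinearMap.single R (fun _ => E) i))
    refine ⟨r, LinearMap.ext fun x => ?_⟩
    rw [hT, ← hψ, LinearMap.comp_apply, ← Finset.univ_sum_single (g x), map_sum]
    refine Finset.sum_congr rfl fun i _ => ?_
    rw [Finset.univ_sum_single]
    exact (hr i (g x i)).symm
  refine ⟨Module.Finite.of_surjective T hsurj, applyₗ_injective hf, fun Φ => ?_⟩
  let e : Fin n → E := fun i => Φ ((LinearMap.proj i).comp g)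
  have hmem : e ∈ LinearMap.range g := by
    by_contra he
    obtain ⟨ψ, hψ⟩ := exists_dual_ne_zero_of_ne hf
      (x := (Submodule.Quotient.mk e : (Fin n → E) ⧸ LinearMap.range g))
      fun h => he ((Submodule.Quotient.mk_eq_zero _).1 h)
    let θ := ψ.comp (LinearMap.range g).mkQ
    choose r hr using fun i => exists_end_eq_smul hf (θ.comp (LinearMap.single R (fun _ => E) i))
    have hθ : ∀ v, θ v = ∑ i, r i • v i := fun v => by
      conv_lhs => rw [← Finset.univ_sum_single v, map_sum]
      exact Finset.sum_congr rfl fun i _ => hr i (v i)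
    have h0 : T r = 0 := LinearMap.ext fun x => by
      rw [hT, ← hθ, LinearMap.zero_apply, LinearMap.comp_apply, Submodule.mkQ_apply,
        (Submodule.Quotient.mk_eq_zero _).2 (LinearMap.mem_range_self g x), map_zero]
    refine hψ ((hθ e).trans ?_)
    have := congrArg Φ h0
    rw [Fintype.linearCombination_apply, map_zero, map_sum] at this
    rw [← this]
    exact Finset.sum_congr rfl fun i _ => (map_smul Φ _ _).symm
  obtain ⟨x, hx⟩ := hmem
  refine ⟨x, LinearMap.ext fun φ => ?_⟩
  obtain ⟨c, rfl⟩ := hsurj φ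
  rw [LinearMap.applyₗ_apply_apply, hT, Fintype.linearCombination_apply, map_sum, hx]
  exact Finset.sum_congr rfl fun i _ => (map_smul Φ _ _).symm

end Groth.Agent.MatlisLib
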