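import Groth.Agent.MatlisLib.Local
import Mathlib.Algebra.Category.ModuleCat.ChangeOfRings
import Mathlib.RingTheory.Ideal.Quotient.Basic

/-!
# Coinduced modules and injective hulls
-/

set_option autoImplicit false

universe u

namespace Groth.Agent.MatlisLib

open InjHull

variable (A B : Type u) [CommRing A] [CommRing B] [Algebra A B] (E : Type u) [AddCommGroup E]
  [Module A E]

/-- The coinduced module `Hom_A(B, E)`. -/
noncomputable abbrev Co : ModuleCat.{u} B :=
  (ModuleCat.coextendScalars (algebraMap A B)).obj (ModuleCat.of A E)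

variable {A B E}

/-- Evaluation. -/
noncomputable def coEv (g : Co A B E) : B →ₗ[A] E where
  toFun b := ModuleCat.CoextendScalars.equiv (algebraMap A B) (ModuleCat.of A E) g b
  map_add' x y := (ModuleCat.CoextendScalars.equiv (algebraMap A B) (ModuleCat.of A E) g).map_add x y
  map_smul' r x := by
    rw [Algebra.smul_def]
    exact (ModuleCat.CoextendScalars.equiv (algebraMap A B) (ModuleCat.of A E) g).map_smul r x

/-- Construction. -/
noncomputable def coMk (φ : B →ₗ[A] E) : Co A B E :=
  (ModuleCat.CoextendScalars.equiv (algebraMap A B) (ModuleCat.of A E)).symm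
    { toFun := fun b => φ b
      map_add' := fun (x y : B) => φ.map_add x y
      map_smul' := fun r (x : B) => by
        show φ (algebraMap A B r * x) = r • φ x
        rw [← Algebra.smul_def, φ.map_smul] }

@[simp]
theorem coEv_coMk (φ : B →ₗ[A] E) : coEv (coMk φ) = φ := rfl

theorem coEv_smul (s : B) (g : Co A B E) (x : B) : coEv (s • g) x = coEv g (x * s) := rfl

theorem coEv_add (g h : Co A B E) (x : B) : coEv (g + h) x = coEv g x + coEv h x := rfl

theorem coEv_zero (x : B) : coEv (0 : Co A B E) x = 0 := rfl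

theorem co_ext {g h : Co A B E} (H : ∀ x, coEv g x = coEv h x) : g = h :=
  ModuleCat.CoextendScalars.ext (LinearMap.ext H)

theorem co_injective (hE : Module.Injective A E) : Module.Injective B (Co A B E) := by
  refine ⟨fun X Y _ _ _ _ f hf g => ?_⟩
  letI : Module A X := Module.compHom X (algebraMap A B)
  letI : Module A Y := Module.compHom Y (algebraMap A B)
  haveI : IsScalarTower A B X := ⟨fun a b x => by
    rw [Algebra.smul_def, mul_smul]; rfl⟩
  haveI : IsScalarTower A B Y := ⟨fun a b x => by
    rw [Algebra.smul_def, mul_smul]; rfl⟩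
  let φ : X →ₗ[A] E :=
    { toFun := fun x => coEv (g x) 1
      map_add' := fun x y => by rw [map_add, coEv_add]
      map_smul' := fun a x => by
        rw [RingHom.id_apply, ← algebraMap_smul B a x, map_smul, coEv_smul, one_mul, ← map_smul,
          Algebra.smul_def, mul_one] }
  obtain ⟨ψ, hψ⟩ := InjHullBasic.exists_extend hE (f := f.restrictScalars A) hf φ
  refine ⟨{ toFun := fun y => coMk (ψ ∘ₗ ((LinearMap.toSpanSingleton B Y y).restrictScalars A))
            map_add' := fun y z => co_ext fun b => ?_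
            map_smul' := fun s y => co_ext fun b => ?_ }, fun x => co_ext fun b => ?_⟩
  · show ψ (b • (y + z)) = ψ (b • y) + ψ (b • z)
    rw [smul_add, map_add]
  · show ψ (b • s • y) = ψ ((b * s) • y)
    rw [mul_smul]
  · show ψ (b • f x) = coEv (g x) b
    rw [← map_smul]
    refine (LinearMap.congr_fun hψ (b • x)).trans ?_
    show coEv (g (b • x)) 1 = coEv (g x) b
    rw [map_smul, coEv_smul, one_mul]

/-- The socle at a maximal ideal `n` of the coinduced module. -/
theorem exists_socle_map (n : Ideal B) [n.IsMaximal]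
    (hfin : Module.length A (B ⧸ n) ≠ ⊤)
    (hlen : Module.length A ((B ⧸ n) →ₗ[A] E) = Module.length A (B ⧸ n))
    (hne : ∃ φ : (B ⧸ n) →ₗ[A] E, φ ≠ 0) :
    ∃ g : (B ⧸ n) →ₗ[B] Co A B E, Function.Injective g ∧
      ∀ t : Co A B E, (∀ s ∈ n, s • t = 0) → t ∈ LinearMap.range g := by
  obtain ⟨φ, hφ⟩ := hne
  letI := Ideal.Quotient.field n
  let θ : (B ⧸ n) →ₗ[A] ((B ⧸ n) →ₗ[A] E) :=
    { toFun := fun c => φ ∘ₗ LinearMap.mulRight A c
      map_add' := fun c d => LinearMap.ext fun x => by
        show φ (x * (c + d)) = φ (x * c) + φ (x * d)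
        rw [mul_add, map_add]
      map_smul' := fun a c => LinearMap.ext fun x => by
        show φ (x * (a • c)) = a • φ (x * c)
        rw [mul_smul_comm, map_smul] }
  have hθ : Function.Injective θ := (injective_iff_map_eq_zero θ).2 fun c hc => by
    by_contra h0
    refine hφ (LinearMap.ext fun x => ?_)
    have := LinearMap.congr_fun hc (x * c⁻¹)
    simpa [θ, mul_assoc, inv_mul_cancel₀ h0] using this
  have hθb := bijective_of_injective_of_length_eq θ hθ hlen.symm (hlen ▸ hfin)
  let φ₀ : Co A B E := coMk (φ ∘ₗ (Ideal.Quotient.mkₐ A n).toLinearMap)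
  have hkill : n ≤ LinearMap.ker (LinearMap.toSpanSingleton B (Co A B E) φ₀) := fun s hs =>
    co_ext fun x => by
      show φ (Ideal.Quotient.mk n (x * s)) = 0
      rw [Ideal.Quotient.eq_zero_iff_mem.2 (n.mul_mem_left x hs), map_zero]
  let g := Submodule.liftQ n (LinearMap.toSpanSingleton B (Co A B E) φ₀) hkill
  have hg : ∀ c x : B, coEv (g (Submodule.Quotient.mk c)) x =
      θ (Ideal.Quotient.mk n c) (Ideal.Quotient.mk n x) := fun c x => by
    show φ (Ideal.Quotient.mk n (x * c)) = φ (Ideal.Quotient.mk n x * Ideal.Quotient.mk n c)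
    rw [map_mul]
  refine ⟨g, (injective_iff_map_eq_zero g).2 fun q hq => ?_, fun t ht => ?_⟩
  · obtain ⟨c, rfl⟩ := Submodule.mkQ_surjective _ q
    refine (injective_iff_map_eq_zero θ).1 hθ (Ideal.Quotient.mk n c) (LinearMap.ext fun x => ?_)
    obtain ⟨x, rfl⟩ := Ideal.Quotient.mk_surjective x
    rw [← hg, ← Submodule.mkQ_apply, hq]
    exact coEv_zero x
  · have hker : (n.restrictScalars A) ≤ LinearMap.ker (coEv t) := fun s hs => by
      have := congrArg (fun h => coEv h 1) (ht s hs)
      simpa [coEv_smul, coEv_zero] using this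
    let ψ : (B ⧸ n) →ₗ[A] E :=
      ((n.restrictScalars A).liftQ (coEv t) hker).comp
        (Submodule.Quotient.restrictScalarsEquiv A n).symm.toLinearMap
    obtain ⟨c, hc⟩ := hθb.2 ψ
    obtain ⟨c, rfl⟩ := Ideal.Quotient.mk_surjective c
    refine ⟨Submodule.Quotient.mk c, co_ext fun x => ?_⟩
    rw [hg, hc]
    rfl

/-- A torsion injective submodule containing the socle is a hull. -/
theorem exists_hull_submodule {C : Type u} [AddCommGroup C] [Module B C] (n : Ideal B) [n.IsMaximal]
    (W : Submodule B C) (hW : Module.Injective B W) (hT : LocCoh.IsPowerTorsion n W)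
    (hsoc : ∀ t : C, (∀ s ∈ n, s • t = 0) → t ∈ W) (g : (B ⧸ n) →ₗ[B] C) (hg : Function.Injective g)
    (hrange : ∀ t : C, (∀ s ∈ n, s • t = 0) → t ∈ LinearMap.range g) :
    ∃ g' : (B ⧸ n) →ₗ[B] W, IsInjectiveHull g' := by
  refine ⟨g.codRestrict W fun q => hsoc _ fun s hs => ?_, isInjectiveHull_iff.2
    ⟨fun a b h => hg (congrArg Subtype.val h), hW, fun x hx => ?_⟩⟩
  · obtain ⟨c, rfl⟩ := Submodule.mkQ_surjective _ q
    rw [← map_smul, ← map_smul, Submodule.mkQ_apply,
      (Submodule.Quotient.mk_eq_zero n).2 (show s • c ∈ n from n.mul_mem_right c hs), map_zero]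
  · obtain ⟨r, hr0, hr⟩ := exists_socle_multiple hT hx
    obtain ⟨c, hc⟩ := hrange _ fun s hs => congrArg Subtype.val (hr s hs)
    exact ⟨r, hr0, c, Subtype.ext hc⟩

end Groth.Agent.MatlisLib
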