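import Groth.Agent.MatlisLib.Hull
import Groth.Agent.Torsion.PowerTorsion
import Mathlib.RingTheory.Length
import Mathlib.RingTheory.SimpleModule.Basic
import Mathlib.RingTheory.Noetherian.Basic
import Mathlib.LinearAlgebra.Dimension.Free

/-!
# The injective hull of `R ⧸ m` at a maximal ideal: socle, torsion, finite length duality
-/

universe u

namespace Groth.Agent.MatlisLib

open InjHull

variable {R : Type u} [CommRing R] {m : Ideal R} [m.IsMaximal] {E : Type u} [AddCommGroup E]
  [Module R E] {f : (R ⧸ m) →ₗ[R] E}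

theorem exists_mul_sub_one_mem {r : R} (hr : r ∉ m) : ∃ s, 1 - s * r ∈ m := by
  obtain ⟨y, hy⟩ := Ideal.IsMaximal.exists_inv ‹_› hr
  obtain ⟨i, hi, h⟩ := hy
  exact ⟨y, by rw [show 1 - y * r = i by linear_combination -h]; exact hi⟩

theorem range_killed {x : E} (hx : x ∈ LinearMap.range f) {a : R} (ha : a ∈ m) : a • x = 0 := by
  obtain ⟨c, rfl⟩ := hx
  obtain ⟨c, rfl⟩ := Ideal.Quotient.mk_surjective c
  rw [← map_smul, show a • Ideal.Quotient.mk m c = Ideal.Quotient.mk m (a * c) from rfl,
    Ideal.Quotient.eq_zero_iff_mem.2 (m.mul_mem_right c ha), map_zero]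

/-- The socle of the hull is the image of `R ⧸ m`. -/
theorem mem_range_of_killed (hf : IsInjectiveHull f) {y : E} (hy : ∀ a ∈ m, a • y = 0) :
    y ∈ LinearMap.range f := by
  by_cases h0 : y = 0
  · simp [h0]
  obtain ⟨r, hr0, hr⟩ := exists_smul_mem_range hf.toIsEssentialInj h0
  obtain ⟨s, hs⟩ := exists_mul_sub_one_mem fun h => hr0 (hy r h)
  have := hy _ hs
  rw [sub_smul, one_smul, sub_eq_zero] at this
  rw [this, mul_smul]
  exact Submodule.smul_mem _ s hr

theorem apply_one_ne_zero (hf : IsInjectiveHull f) : f 1 ≠ 0 := fun h =>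
  m.ne_top_iff_one.1 (Ideal.IsMaximal.ne_top ‹_›)
    (Ideal.Quotient.eq_zero_iff_mem.1 (hf.injective (h.trans (map_zero f).symm)))

/-- The hull detects elements whose annihilator lies in `m`. -/
theorem exists_dual_ne_zero (hf : IsInjectiveHull f) {M : Type u} [AddCommGroup M] [Module R M]
    {x : M} (hx : (R ∙ x).annihilator ≤ m) : ∃ φ : M →ₗ[R] E, φ x ≠ 0 := by
  let ι := LinearMap.toSpanSingleton R M x
  have hker : LinearMap.ker ι ≤ LinearMap.ker (f ∘ₗ Submodule.mkQ m) := by
    intro a ha
    have ha' : a ∈ m := hx (by rwa [Submodule.mem_annihilator_span_singleton])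
    rw [LinearMap.mem_ker, LinearMap.comp_apply, Submodule.mkQ_apply,
      (Submodule.Quotient.mk_eq_zero m).2 ha', map_zero]
  obtain ⟨φ, hφ⟩ := InjHullBasic.exists_extend hf.isInjective
    (LinearMap.ker_eq_bot.1 (Submodule.ker_liftQ_eq_bot (LinearMap.ker ι) ι le_rfl le_rfl))
    ((LinearMap.ker ι).liftQ _ hker)
  refine ⟨φ, fun h => apply_one_ne_zero hf ?_⟩
  have := LinearMap.congr_fun hφ (Submodule.Quotient.mk (1 : R))
  simp only [LinearMap.comp_apply, Submodule.liftQ_apply, ι, LinearMap.toSpanSingleton_apply,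
    one_smul] at this
  rw [h] at this
  exact this.symm

theorem annihilator_le_of_isPowerTorsion {M : Type u} [AddCommGroup M] [Module R M]
    (hM : LocCoh.IsPowerTorsion m M) {x : M} (hx : x ≠ 0) : (R ∙ x).annihilator ≤ m := by
  intro a ha
  by_contra hna
  obtain ⟨n, hn⟩ := hM x
  obtain ⟨s, hs⟩ := exists_mul_sub_one_mem hna
  rw [Submodule.mem_annihilator_span_singleton] at ha
  have h1 : ∀ k : ℕ, (1 - s * a) ^ k • x = x := by
    intro k
    induction k with
    | zero => simp
    | succ k ih =>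
      rw [pow_succ, mul_smul, sub_smul, one_smul, mul_smul, ha, smul_zero, sub_zero, ih]
  exact hx ((h1 n).symm.trans (hn _ (Ideal.pow_mem_pow hs n)))

theorem applyₗ_injective_of_isPowerTorsion (hf : IsInjectiveHull f) {M : Type u} [AddCommGroup M]
    [Module R M] (hM : LocCoh.IsPowerTorsion m M) :
    Function.Injective (LinearMap.applyₗ : M →ₗ[R] (M →ₗ[R] E) →ₗ[R] E) := by
  rw [injective_iff_map_eq_zero]
  intro x hx
  by_contra h0
  obtain ⟨φ, hφ⟩ := exists_dual_ne_zero hf (annihilator_le_of_isPowerTorsion hM h0)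
  exact hφ (LinearMap.congr_fun hx φ)

theorem exists_socle_multiple {M : Type u} [AddCommGroup M] [Module R M]
    (hM : LocCoh.IsPowerTorsion m M) {x : M} (hx : x ≠ 0) :
    ∃ r : R, r • x ≠ 0 ∧ ∀ a ∈ m, a • (r • x) = 0 := by
  classical
  obtain ⟨k, hk⟩ : ∃ k, Nat.find (hM x) = k + 1 := by
    refine ⟨Nat.find (hM x) - 1, ?_⟩
    have : Nat.find (hM x) ≠ 0 := fun h => hx (by
      have := Nat.find_spec (hM x)
      rw [h] at this
      simpa using this 1 (by simp))
    omega
  obtain ⟨r, hr, hr0⟩ : ∃ r ∈ m ^ k, r • x ≠ 0 := by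
    by_contra h
    push Not at h
    exact Nat.find_min (hM x) (m := k) (by omega) h
  refine ⟨r, hr0, fun a ha => ?_⟩
  rw [← mul_smul]
  refine Nat.find_spec (hM x) _ ?_
  rw [hk, pow_succ, mul_comm a r]
  exact Ideal.mul_mem_mul hr ha

/-- Over a Noetherian ring the hull is `m`-power torsion. -/
theorem isPowerTorsion [IsNoetherianRing R] (hf : IsInjectiveHull f) :
    LocCoh.IsPowerTorsion m E := by
  intro x
  refine Torsion.exists_pow_smul_eq_zero_of_le_radical m (IsNoetherian.noetherian m) x fun a ha => ?_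
  let c : ℕ →o Ideal R := ⟨fun k => (R ∙ a ^ k • x).annihilator, fun k l hkl r hr => by
    rw [Submodule.mem_annihilator_span_singleton] at hr ⊢
    obtain ⟨d, rfl⟩ := Nat.exists_eq_add_of_le hkl
    rw [pow_add, mul_comm, mul_smul, smul_comm, hr, smul_zero]⟩
  obtain ⟨N, hN⟩ := monotone_stabilizes_iff_noetherian.mpr (inferInstance : IsNoetherian R R) c
  refine ⟨N, ?_⟩
  rw [Submodule.mem_annihilator_span_singleton]
  by_contra h0
  obtain ⟨r, hr0, hr⟩ := exists_smul_mem_range hf.toIsEssentialInj h0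
  have h1 : r ∈ c (N + 1) := by
    show r ∈ (R ∙ a ^ (N + 1) • x).annihilator
    rw [Submodule.mem_annihilator_span_singleton, pow_succ', mul_smul, smul_comm]
    exact range_killed hr ha
  rw [← hN (N + 1) (Nat.le_succ N)] at h1
  exact hr0 ((Submodule.mem_annihilator_span_singleton _ _).1 h1)

/-- `Hom(R ⧸ m, E)` is `R ⧸ m`. -/
theorem length_dual_quotient (hf : IsInjectiveHull f) :
    Module.length R ((R ⧸ m) →ₗ[R] E) = Module.length R (R ⧸ m) := by
  let ψ : (R ⧸ m) →ₗ[R] ((R ⧸ m) →ₗ[R] E) :=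
    (LinearMap.compRight R f).comp (LinearMap.mul R (R ⧸ m))
  have hψ : ∀ c d, ψ c d = f (c * d) := fun c d => rfl
  refine (LinearEquiv.ofBijective ψ ⟨fun c d h => ?_, fun φ => ?_⟩).length_eq.symm
  · have := LinearMap.congr_fun h 1
    rw [hψ, hψ, mul_one, mul_one] at this
    exact hf.injective this
  · obtain ⟨c, hc⟩ := mem_range_of_killed hf (y := φ 1) fun a ha => by
      rw [← map_smul, show a • (1 : R ⧸ m) = 0 from
        (Ideal.Quotient.eq_zero_iff_mem.2 (m.mul_mem_right 1 ha) : Ideal.Quotient.mk m (a * 1) = 0),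
        map_zero]
    refine ⟨c, LinearMap.ext fun d => ?_⟩
    obtain ⟨d, rfl⟩ := Ideal.Quotient.mk_surjective d
    have e : Ideal.Quotient.mk m d = d • (1 : R ⧸ m) :=
      show _ = Ideal.Quotient.mk m (d * 1) by rw [mul_one]
    rw [hψ, e, mul_smul_comm, mul_one, map_smul, map_smul, hc]

theorem isPowerTorsion_of_injective {M N : Type u} [AddCommGroup M] [Module R M] [AddCommGroup N]
    [Module R N] (g : M →ₗ[R] N) (hg : Function.Injective g) (hN : LocCoh.IsPowerTorsion m N) :
    LocCoh.IsPowerTorsion m M := fun x => by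
  obtain ⟨n, hn⟩ := hN (g x)
  exact ⟨n, fun a ha => hg (by rw [map_smul, hn a ha, map_zero])⟩

theorem isPowerTorsion_of_surjective {M N : Type u} [AddCommGroup M] [Module R M] [AddCommGroup N]
    [Module R N] (g : M →ₗ[R] N) (hg : Function.Surjective g) (hM : LocCoh.IsPowerTorsion m M) :
    LocCoh.IsPowerTorsion m N := fun y => by
  obtain ⟨x, rfl⟩ := hg y
  obtain ⟨n, hn⟩ := hM x
  exact ⟨n, fun a ha => by rw [← map_smul, hn a ha, map_zero]⟩

theorem nonempty_equiv_of_isSimple {M : Type u} [AddCommGroup M] [Module R M] [IsSimpleModule R M]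
    (hM : LocCoh.IsPowerTorsion m M) : Nonempty ((R ⧸ m) ≃ₗ[R] M) := by
  haveI := IsSimpleModule.nontrivial R M
  obtain ⟨x, hx⟩ := exists_ne (0 : M)
  obtain ⟨r, hr0, hr⟩ := exists_socle_multiple hM hx
  let g : (R ⧸ m) →ₗ[R] M := Submodule.liftQ m (LinearMap.toSpanSingleton R M (r • x))
    fun a ha => hr a ha
  haveI : IsSimpleModule R (R ⧸ m) := isSimpleModule_iff_isCoatom.2 (Ideal.isMaximal_def.1 ‹_›)
  refine ⟨LinearEquiv.ofBijective g (LinearMap.bijective_of_ne_zero fun h => hr0 ?_)⟩
  have := LinearMap.congr_fun h (Submodule.Quotient.mk 1)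
  rwa [show g (Submodule.Quotient.mk (1 : R)) = (1 : R) • r • x from rfl, one_smul,
    LinearMap.zero_apply] at this

/-- Duality preserves length. -/
theorem length_dual (hf : IsInjectiveHull f) :
    ∀ {M : Type u} [AddCommGroup M] [Module R M], IsFiniteLength R M →
      LocCoh.IsPowerTorsion m M → Module.length R (M →ₗ[R] E) = Module.length R M := by
  intro M _ _ hM
  induction hM with
  | @of_subsingleton M _ _ _ =>
    intro _
    haveI : Subsingleton (M →ₗ[R] E) := ⟨fun a b => LinearMap.ext fun x => by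
      rw [Subsingleton.elim x 0, map_zero, map_zero]⟩
    rw [Module.length_eq_zero, Module.length_eq_zero]
  | @of_simple_quotient M _ _ N _ hN ih =>
    intro hT
    obtain ⟨e⟩ := nonempty_equiv_of_isSimple (isPowerTorsion_of_surjective N.mkQ N.mkQ_surjective hT)
    have hQ : Module.length R ((M ⧸ N) →ₗ[R] E) = Module.length R (M ⧸ N) := by
      rw [← e.length_eq, ← length_dual_quotient hf]
      exact (LinearEquiv.arrowCongr e.symm (LinearEquiv.refl R E)).length_eq
    have hS := ih (isPowerTorsion_of_injective N.subtype N.injective_subtype hT)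
    rw [Module.length_eq_add_of_exact N.subtype N.mkQ N.injective_subtype N.mkQ_surjective
      (LinearMap.exact_subtype_mkQ N), ← hS, ← hQ, add_comm]
    refine Module.length_eq_add_of_exact (LinearMap.lcomp R E N.mkQ) (LinearMap.lcomp R E N.subtype)
      (fun a b h => LinearMap.ext fun q => ?_) (fun φ => ?_) fun φ => ⟨fun h => ?_, ?_⟩
    · obtain ⟨y, rfl⟩ := N.mkQ_surjective q
      exact LinearMap.congr_fun h y
    · obtain ⟨α, hα⟩ := InjHullBasic.exists_extend hf.isInjective N.injective_subtype φ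
      exact ⟨α, hα⟩
    · exact ⟨N.liftQ φ fun y hy => LinearMap.congr_fun h ⟨y, hy⟩, LinearMap.ext fun y => rfl⟩
    · rintro ⟨ψ, rfl⟩
      refine LinearMap.ext fun y => ?_
      show ψ (N.mkQ y) = 0
      rw [Submodule.mkQ_apply, (Submodule.Quotient.mk_eq_zero N).2 y.2, map_zero]

theorem bijective_of_injective_of_length_eq {A B : Type u} [AddCommGroup A] [Module R A]
    [AddCommGroup B] [Module R B] (g : A →ₗ[R] B) (hg : Function.Injective g)
    (h : Module.length R A = Module.length R B) (hB : Module.length R B ≠ ⊤) :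
    Function.Bijective g := by
  refine ⟨hg, LinearMap.range_eq_top.1 ?_⟩
  have := Module.length_eq_add_of_exact g (LinearMap.range g).mkQ hg (Submodule.mkQ_surjective _)
    (LinearMap.exact_map_mkQ_range g)
  rw [h] at this
  have h0 : Module.length R (B ⧸ LinearMap.range g) = 0 := by
    lift Module.length R B to ℕ using hB with n hn
    cases hq : Module.length R (B ⧸ LinearMap.range g) with
    | top => rw [hq] at this; simp at this
    | coe q => rw [hq] at this; norm_cast at this ⊢; omega
  rw [Module.length_eq_zero_iff, Submodule.Quotient.subsingleton_iff] at h0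
  exact h0

theorem isPowerTorsion_dual {M : Type u} [AddCommGroup M] [Module R M]
    (hM : IsFiniteLength R M) (hT : LocCoh.IsPowerTorsion m M) :
    LocCoh.IsPowerTorsion m (M →ₗ[R] E) := by
  classical
  obtain ⟨hfin, -⟩ := isFiniteLength_iff_isNoetherian_isArtinian.1 hM
  obtain ⟨S, hS⟩ := (IsNoetherian.noetherian (⊤ : Submodule R M))
  choose k hk using hT
  intro φ
  refine ⟨S.sup k, fun a ha => ?_⟩
  refine LinearMap.ext_on hS fun x hx => ?_
  rw [LinearMap.smul_apply, LinearMap.zero_apply, ← map_smul,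
    hk x a (Ideal.pow_le_pow_right (Finset.le_sup hx) ha), map_zero]

/-- Finite length modules are reflexive. -/
theorem applyₗ_bijective (hf : IsInjectiveHull f) {M : Type u} [AddCommGroup M] [Module R M]
    (hM : IsFiniteLength R M) (hT : LocCoh.IsPowerTorsion m M) :
    Function.Bijective (LinearMap.applyₗ : M →ₗ[R] (M →ₗ[R] E) →ₗ[R] E) := by
  have h1 := length_dual hf hM hT
  have hne : Module.length R M ≠ ⊤ := Module.length_ne_top_iff.2 hM
  have h2 := length_dual hf (M := M →ₗ[R] E)
    (Module.length_ne_top_iff.1 (h1 ▸ hne)) (isPowerTorsion_dual hM hT)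
  exact bijective_of_injective_of_length_eq _ (applyₗ_injective_of_isPowerTorsion hf hT)
    (by rw [h2, h1]) (by rw [h2, h1]; exact hne)

/-- A torsion module with socle of dimension `n` embeds into `Eⁿ`. -/
theorem exists_injective_pi (hf : IsInjectiveHull f) {M : Type u} [AddCommGroup M] [Module R M]
    (hM : LocCoh.IsPowerTorsion m M) [Module.Finite (R ⧸ m) (LocCoh.torsionBy m M)] {n : ℕ}
    (hn : Module.finrank (R ⧸ m) (LocCoh.torsionBy m M) = n) :
    ∃ g : M →ₗ[R] (Fin n → E), Function.Injective g := by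
  letI := Ideal.Quotient.field m
  let b := Module.finBasisOfFinrankEq (R ⧸ m) (LocCoh.torsionBy m M) hn
  let g₀ : LocCoh.torsionBy m M →ₗ[R] (Fin n → E) :=
    (f.compLeft (Fin n)).comp (b.equivFun.toLinearMap.restrictScalars R)
  have hinj : Module.Injective R (Fin n → E) := ⟨fun X Y _ _ _ _ i hi g => by
    choose h hh using fun j => hf.isInjective.out i hi ((LinearMap.proj j).comp g)
    exact ⟨LinearMap.pi h, fun x => funext fun j => hh j x⟩⟩
  obtain ⟨g, hg⟩ := InjHullBasic.exists_extend hinj (LocCoh.torsionBy m M).injective_subtype g₀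
  refine ⟨g, (injective_iff_map_eq_zero g).2 fun x hx => by_contra fun h0 => ?_⟩
  obtain ⟨r, hr0, hr⟩ := exists_socle_multiple hM h0
  have hmem : r • x ∈ LocCoh.torsionBy m M := (Submodule.mem_torsionBySet_iff _ _).2 fun a => hr a a.2
  have h1 : g₀ ⟨r • x, hmem⟩ = 0 := by
    rw [← hg]
    show g (r • x) = 0
    rw [map_smul, hx, smul_zero]
  have h2 : b.equivFun ⟨r • x, hmem⟩ = 0 := funext fun j =>
    hf.injective (((congrFun h1 j : _)).trans (map_zero f).symm)
  exact hr0 (congrArg Subtype.val (b.equivFun.map_eq_zero_iff.1 h2))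

end Groth.Agent.MatlisLib
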