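import Groth.Agent.InjHull.Basic
import Groth.Agent.S1728
import Mathlib.Algebra.Category.ModuleCat.EnoughInjectives
import Mathlib.Algebra.Category.ModuleCat.Injective
import Mathlib.CategoryTheory.Preadditive.Injective.Basic

/-!
# Existence of injective hulls, element criteria
-/

universe u v

namespace Groth.Agent.MatlisLib

open InjHull CategoryTheory

variable {R : Type u} [CommRing R]

theorem exists_smul_mem_range {M E : Type v} [AddCommGroup M] [Module R M] [AddCommGroup E]
    [Module R E] {f : M →ₗ[R] E} (hf : IsEssentialInj f) {x : E} (hx : x ≠ 0) :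
    ∃ r : R, r • x ≠ 0 ∧ r • x ∈ LinearMap.range f := by
  obtain ⟨y, hy, hy0⟩ := Submodule.exists_mem_ne_zero_of_ne_bot
    (hf.essential (R ∙ x) (by simpa using hx))
  obtain ⟨r, rfl⟩ := Submodule.mem_span_singleton.1 hy.1
  exact ⟨r, hy0, hy.2⟩

theorem essential_of_exists_smul {M E : Type v} [AddCommGroup M] [Module R M] [AddCommGroup E]
    [Module R E] {f : M →ₗ[R] E} (hf : Function.Injective f)
    (h : ∀ x : E, x ≠ 0 → ∃ r : R, r • x ≠ 0 ∧ r • x ∈ LinearMap.range f) : IsEssentialInj f := by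
  refine ⟨hf, fun N hN => ?_⟩
  obtain ⟨x, hx, hx0⟩ := Submodule.exists_mem_ne_zero_of_ne_bot hN
  obtain ⟨r, hr0, hr⟩ := h x hx0
  exact Submodule.ne_bot_iff _ |>.2 ⟨r • x, ⟨N.smul_mem r hx, hr⟩, hr0⟩

theorem exists_embedding_injective (M : Type u) [AddCommGroup M] [Module R M] :
    ∃ (I : Type u) (_ : AddCommGroup I) (_ : Module R I) (i : M →ₗ[R] I),
      Module.Injective R I ∧ Function.Injective i :=
  ⟨(Injective.under (ModuleCat.of.{u} R M) : ModuleCat.{u} R), inferInstance, inferInstance,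
    (Injective.ι (ModuleCat.of R M)).hom,
    (Module.injective_iff_injective_object R _).2
      (Injective.injective_under (ModuleCat.of.{u} R M)),
    (ModuleCat.mono_iff_injective _).1 inferInstance⟩

/-- Any submodule of an injective module has an injective essential extension inside it. -/
theorem exists_injective_essential_le {I : Type u} [AddCommGroup I] [Module R I]
    [Module.Injective R I] (N : Submodule R I) :
    ∃ E : Submodule R I, N ≤ E ∧ Module.Injective R E ∧
      ∀ x ∈ E, x ≠ 0 → ∃ r : R, r • x ≠ 0 ∧ r • x ∈ N := by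
  let S : Set (Submodule R I) :=
    {E | N ≤ E ∧ ∀ x ∈ E, x ≠ 0 → ∃ r : R, r • x ≠ 0 ∧ r • x ∈ N}
  have hN : N ∈ S := ⟨le_rfl, fun x hx hx0 => ⟨1, by simpa using hx0, by simpa using hx⟩⟩
  obtain ⟨E, -, hE⟩ := zorn_le_nonempty₀ S (fun c hc hchain y hy => ⟨sSup c,
    ⟨(hc hy).1.trans (le_sSup hy), fun x hx => by
      obtain ⟨z, hz, hxz⟩ := (Submodule.mem_sSup_of_directed ⟨y, hy⟩ hchain.directedOn).1 hx
      exact (hc hz).2 x hxz⟩, fun z hz => le_sSup hz⟩) N hN
  refine ⟨E, hE.prop.1, (S1728.result R I E).2 fun E' hle hess => ?_, hE.prop.2⟩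
  refine le_antisymm (hE.le_of_ge ⟨hE.prop.1.trans hle, fun x hx hx0 => ?_⟩ hle) hle
  obtain ⟨y, hy, hy0⟩ := Submodule.exists_mem_ne_zero_of_ne_bot
    (hess (R ∙ x) (by rwa [Submodule.span_singleton_le_iff_mem]) (by simpa using hx0))
  obtain ⟨r, rfl⟩ := Submodule.mem_span_singleton.1 hy.1
  obtain ⟨s, hs0, hs⟩ := hE.prop.2 _ hy.2 hy0
  exact ⟨s * r, by rwa [mul_smul], by rwa [mul_smul]⟩

theorem exists_hull (M : Type u) [AddCommGroup M] [Module R M] :
    ∃ (E : Type u) (_ : AddCommGroup E) (_ : Module R E) (f : M →ₗ[R] E), IsInjectiveHull f := by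
  obtain ⟨I, _, _, i, hI, hi⟩ := exists_embedding_injective (R := R) M
  obtain ⟨E, hle, hE, hess⟩ := exists_injective_essential_le (LinearMap.range i)
  refine ⟨E, inferInstance, inferInstance, i.codRestrict E fun m => hle ⟨m, rfl⟩,
    ⟨essential_of_exists_smul (fun a b h => hi (congrArg Subtype.val h)) fun x hx => ?_, hE⟩⟩
  obtain ⟨r, hr0, m, hm⟩ := hess x x.2 (fun h => hx (Subtype.ext h))
  exact ⟨r, fun h => hr0 (congrArg Subtype.val h), m, Subtype.ext hm⟩

/-- If every nonzero element of an injective module has a nonzero multiple in a given submodule,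
a map out of it is injective when it is injective on that submodule. -/
theorem isInjectiveHull_iff {M E : Type v} [AddCommGroup M] [Module R M] [AddCommGroup E]
    [Module R E] {f : M →ₗ[R] E} :
    IsInjectiveHull f ↔ Function.Injective f ∧ Module.Injective R E ∧
      ∀ x : E, x ≠ 0 → ∃ r : R, r • x ≠ 0 ∧ r • x ∈ LinearMap.range f :=
  ⟨fun h => ⟨h.injective, h.isInjective, fun _ => exists_smul_mem_range h.toIsEssentialInj⟩,
    fun h => ⟨essential_of_exists_smul h.1 h.2.2, h.2.1⟩⟩

end Groth.Agent.MatlisLib
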